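import Cfsg.Agent.H402.Rg.Dk
import Cfsg.Agent.H957.SpIndex
import Cfsg.Agent.H621.EP.OrdO
import Cfsg.Agent.S0300

/-!
# Subgroups of `O⁻_4(2^f)` of order divisible by a primitive prime for the exponent `4 f` (helper898; S3691, PSp_4(2^f), box O)
-/

set_option autoImplicit false

namespace Cfsg.Agent.H898.Sp4

open Cfsg Subgroup Module
open scoped MatrixGroups
open Cfsg.Agent.H884.El (PP)
open Cfsg.Agent.LieClassical.OrthCore (Nondeg)

/-- subgroups of `O` with `|O| = 2 |Ω / Z(Ω)|`, `Ω = [O, O]` -/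
theorem exists_img {O : Type*} [Group O] [Finite O]
    (hc : Nat.card O = 2 * Nat.card (commutator O ⧸ center (commutator O))) (X : Subgroup O) :
    ∃ Y : Subgroup (commutator O ⧸ center (commutator O)), Nat.card Y ∣ Nat.card X ∧ Nat.card X ∣ 2 * Nat.card Y := by
  set Z := center (commutator O) with hZ
  have h1 : Nat.card (commutator O) = Nat.card (commutator O ⧸ Z) * Nat.card Z :=
    Subgroup.card_eq_card_quotient_mul_card_subgroup Z
  have h2 : Nat.card (commutator O) * (commutator O).index = Nat.card O := Subgroup.card_mul_index _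
  have h3 : Nat.card Z * (commutator O).index = 2 := by
    rw [h1, hc] at h2
    have h4 : Nat.card (commutator O ⧸ Z) * (Nat.card Z * (commutator O).index) = Nat.card (commutator O ⧸ Z) * 2 := by
      rw [← mul_assoc, h2, mul_comm]
    exact Nat.eq_of_mul_eq_mul_left Nat.card_pos h4
  set X1 : Subgroup (commutator O) := X.subgroupOf (commutator O) with hX1
  let g : X1 →* (commutator O ⧸ Z) := (QuotientGroup.mk' Z).comp X1.subtype
  have hX1c : Nat.card X1 = Nat.card (X ⊓ commutator O : Subgroup O) := by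
    have h5 : X1.map (commutator O).subtype = X ⊓ commutator O := Subgroup.subgroupOf_map_subtype X (commutator O)
    rw [← h5, Subgroup.card_map_of_injective (Subgroup.subtype_injective _)]
  refine ⟨g.range, ?_, ?_⟩
  · refine (Subgroup.card_range_dvd g).trans ?_
    rw [hX1c]
    exact Subgroup.card_dvd_of_le inf_le_left
  · have h5 : Nat.card X1 = Nat.card g.ker * Nat.card g.range := by
      rw [← Subgroup.index_ker, Subgroup.card_mul_index]
    have h6 : Nat.card g.ker ∣ Nat.card Z := by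
      have h7 : g.ker.map X1.subtype ≤ Z := by
        rintro _ ⟨x, hx, rfl⟩
        exact (QuotientGroup.eq_one_iff _).1 (MonoidHom.mem_ker.1 hx)
      have h8 := Subgroup.card_dvd_of_le h7
      rwa [Subgroup.card_map_of_injective (Subgroup.subtype_injective _)] at h8
    have h9 : Nat.card (X ⊓ commutator O : Subgroup O) * (commutator O).relIndex X = Nat.card X := by
      have h10 := Subgroup.relIndex_mul_relIndex (⊥ : Subgroup O) (commutator O ⊓ X) X bot_le inf_le_right
      rw [Subgroup.relIndex_bot_left, Subgroup.relIndex_bot_left, Subgroup.inf_relIndex_right, inf_comm] at h10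
      exact h10
    have h11 : (commutator O).relIndex X ∣ (commutator O).index := Subgroup.relIndex_dvd_index_of_normal _ _
    rw [← h9, ← hX1c, h5, ← h3]
    calc Nat.card g.ker * Nat.card g.range * (commutator O).relIndex X ∣
          Nat.card Z * Nat.card g.range * (commutator O).index := Nat.mul_dvd_mul (Nat.mul_dvd_mul h6 dvd_rfl) h11
      _ = _ := by ring

/-- **box O** -/
theorem o4m {F : Type} [Field F] [Fintype F] [CharP F 2] {f : ℕ} (hf : 2 ≤ f) (hF : Fintype.card F = 2 ^ f)
    (Q : QuadraticForm F (Fin 2 ⊕ Fin 2 → F)) (hnd : Nondeg Q) (hP : ¬ Cfsg.Agent.H955.IsPlus Q) {r : ℕ}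
    (hr : PP 2 (2 * (2 * f)) r) {X : Subgroup (GL (Fin 2 ⊕ Fin 2) F)} (hX : X ≤ Cfsg.isometryGroup F (⇑Q))
    (hrX : r ∣ Nat.card X) : (2 ^ f) ^ 2 ∣ Nat.card X ∨ Nat.card X ≤ 8 * ((2 ^ f) ^ 2 + 1) := by
  classical
  have h2 := Fact.mk Nat.prime_two
  set q := 2 ^ f with hq
  have hq4 : 4 ≤ q := by
    calc 4 = 2 ^ 2 := by norm_num
      _ ≤ 2 ^ f := Nat.pow_le_pow_right two_pos hf
  -- the field with `q²` elements
  let K := GaloisField 2 (2 * f)
  have hKfin : Finite K := inferInstance
  let _ : Fintype K := Fintype.ofFinite K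
  have hK : Fintype.card K = 2 ^ (2 * f) := by
    rw [← Nat.card_eq_fintype_card]
    exact GaloisField.card 2 (2 * f) (by omega)
  have hK2 : Fintype.card K = q ^ 2 := by rw [hK, hq, ← pow_mul, mul_comm]
  obtain ⟨a, b, hab⟩ := H955.exists_aniso_coeff F
  obtain ⟨e, he⟩ := H955.exists_minus_equiv hab 1 Q hnd (by rw [Module.finrank_fintype_fun_eq_card]; rfl) hP
  obtain ⟨e1⟩ := H621.EP.pomega_of_equiv (Q := LieClassical.QuadForms.minusForm 1 F a b) (Q' := Q) e he
  rw [LieClassical.QuadForms.coe_minusForm] at e1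
  obtain ⟨e2⟩ := Cfsg.Agent.S0300.result (F := F) (K := K) (q := q) hF hK2 a b hab
  have hfin : Finite (Matrix.ProjectiveSpecialLinearGroup (Fin 2) K) := Quotient.finite _
  let ε : (commutator (Cfsg.isometryGroup F (⇑Q)) ⧸ center (commutator (Cfsg.isometryGroup F (⇑Q)))) ≃*
    Matrix.ProjectiveSpecialLinearGroup (Fin 2) K := e1.symm.trans e2
  have hcp := Cfsg.Agent.H394.SqPsl2.card_psl (F := K)
  rw [hK2] at hcp
  have hq1 : 1 ≤ q ^ 2 := Nat.one_le_pow _ _ (by omega)
  have hodd : Nat.gcd 2 (q ^ 2 - 1) = 1 := by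
    rw [← Nat.coprime_iff_gcd_eq_one, Nat.coprime_two_left]
    have : Even (q ^ 2) := by
      rw [hq, ← pow_mul]
      exact (Nat.even_pow.2 ⟨even_two, by omega⟩)
    exact Nat.Even.sub_odd hq1 this odd_one
  rw [hodd, one_mul] at hcp
  have hcO := H957.card_isometryGroup_minus Q hnd (m := 2) (by norm_num) (by rfl) hP
  rw [hF] at hcO
  have hOfin : Finite (Cfsg.isometryGroup F (⇑Q)) := inferInstance
  have hc : Nat.card (Cfsg.isometryGroup F (⇑Q)) =
      2 * Nat.card (commutator (Cfsg.isometryGroup F (⇑Q)) ⧸ center (commutator (Cfsg.isometryGroup F (⇑Q)))) := by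
    rw [Nat.card_congr ε.toEquiv, hcp, hcO]
    have e3 : (q ^ 2) ^ 2 - 1 = (q ^ 2 + 1) * (q ^ 2 - 1) := by
      have := Nat.sq_sub_sq (q ^ 2) 1
      rwa [one_pow] at this
    rw [e3]
    simp only [Nat.add_one_sub_one, Finset.range_one, Finset.prod_singleton, mul_one, zero_add]
    ring
  obtain ⟨Y, hY1, hY2⟩ := exists_img hc (X.subgroupOf (Cfsg.isometryGroup F (⇑Q)))
  rw [Nat.card_congr (Subgroup.subgroupOfEquivOfLe hX).toEquiv] at hY1 hY2
  have hYc : Nat.card (Y.map ε.toMonoidHom) = Nat.card Y := Subgroup.card_map_of_injective ε.injective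
  have hr2 : r ≠ 2 := by
    rintro rfl
    exact hr.not_dvd (by omega) dvd_rfl
  have hrY : r ∣ Nat.card (Y.map ε.toMonoidHom) := by
    rw [hYc]
    refine ((Nat.Prime.dvd_mul hr.prime).1 (hrX.trans hY2)).resolve_left fun h => hr2 ?_
    exact (Nat.prime_dvd_prime_iff_eq hr.prime Nat.prime_two).1 h
  have hle : Nat.card X ≤ 2 * Nat.card Y := Nat.le_of_dvd (Nat.mul_pos two_pos Nat.card_pos) hY2
  have hq16 : 16 ≤ q ^ 2 := by
    calc 16 = 4 ^ 2 := by norm_num
      _ ≤ q ^ 2 := Nat.pow_le_pow_left hq4 2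
  rcases Cfsg.Agent.H402.Rg.psl_of_pp hK (by omega) hr (Y.map ε.toMonoidHom) hrY with h | h | h
  · left
    refine Dvd.dvd.trans ?_ hY1
    rw [← hYc, h, Subgroup.card_top, hcp]
    exact dvd_mul_right _ _
  · right
    rw [hYc, hK2] at h
    omega
  · right
    rw [hYc] at h
    omega

end Cfsg.Agent.H898.Sp4
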